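import Mathlib.RingTheory.Filtration
import Mathlib.RingTheory.Ideal.Operations

/-!
Conrad–de Jong: a small perturbation of a presentation together with its relations does not change
the initial ideal.
-/

set_option autoImplicit false

universe u

open Finset

namespace Groth.Agent.AlgzLib

variable {S : Type u} [CommRing S] (M : Ideal S) {r l : ℕ}

/-- The linear map given by a family of elements. -/
def comb (f : Fin r → S) : (Fin r → S) →ₗ[S] S := Fintype.linearCombination S f

theorem comb_apply (f a : Fin r → S) : comb f a = ∑ i, a i * f i := by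
  simp [comb, Fintype.linearCombination_apply]

theorem comb_mem (f : Fin r → S) (a : Fin r → S) : comb f a ∈ Ideal.span (Set.range f) := by
  rw [comb_apply]
  exact Submodule.sum_mem _ fun i _ => Ideal.mul_mem_left _ _ (Ideal.subset_span ⟨i, rfl⟩)

theorem exists_comb {f : Fin r → S} {x : S} (hx : x ∈ Ideal.span (Set.range f)) : ∃ a, comb f a = x := by
  obtain ⟨a, ha⟩ := Ideal.mem_span_range_iff_exists_fun.1 hx
  exact ⟨a, (comb_apply f a).trans ha⟩

/-- Artin–Rees for a finitely generated ideal, with coefficients. -/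
theorem exists_artinRees_comb [IsNoetherianRing S] (f : Fin r → S) :
    ∃ c, ∀ n, c ≤ n → ∀ g ∈ M ^ n, g ∈ Ideal.span (Set.range f) →
      ∃ a : Fin r → S, (∀ i, a i ∈ M ^ (n - c)) ∧ comb f a = g := by
  obtain ⟨c, hc⟩ := Ideal.exists_pow_inf_eq_pow_smul M (Ideal.span (Set.range f) : Submodule S S)
  refine ⟨c, fun n hn g hg hg' => ?_⟩
  have h1 : g ∈ (M ^ n • ⊤ ⊓ Ideal.span (Set.range f) : Submodule S S) :=
    ⟨by rwa [smul_eq_mul, Ideal.mul_top], hg'⟩
  rw [hc n hn] at h1
  have h2 : g ∈ M ^ (n - c) • (Submodule.span S (Set.range f)) :=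
    Submodule.smul_mono le_rfl inf_le_right h1
  rw [Submodule.mem_ideal_smul_span_iff_exists_sum] at h2
  obtain ⟨a, ha, hsum⟩ := h2
  refine ⟨fun i => a i, fun i => ha i, ?_⟩
  rw [comb_apply, ← hsum, Finsupp.sum_fintype _ _ (fun i => by simp)]
  simp

/-- Artin–Rees for a submodule of a finite free module, with coefficients. -/
theorem exists_artinRees_rel [IsNoetherianRing S] (s : Fin l → Fin r → S) :
    ∃ c, ∀ n, c ≤ n → ∀ a ∈ Submodule.span S (Set.range s), (∀ i, a i ∈ M ^ n) →
      ∃ b : Fin l → S, (∀ j, b j ∈ M ^ (n - c)) ∧ ∑ j, b j • s j = a := by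
  classical
  obtain ⟨c, hc⟩ := Ideal.exists_pow_inf_eq_pow_smul M (Submodule.span S (Set.range s))
  refine ⟨c, fun n hn a ha ha' => ?_⟩
  have h0 : a ∈ M ^ n • (⊤ : Submodule S (Fin r → S)) := by
    rw [pi_eq_sum_univ a]
    exact Submodule.sum_mem _ fun i _ => Submodule.smul_mem_smul (ha' i) trivial
  have h1 : a ∈ M ^ n • ⊤ ⊓ Submodule.span S (Set.range s) := ⟨h0, ha⟩
  rw [hc n hn] at h1
  have h2 : a ∈ M ^ (n - c) • Submodule.span S (Set.range s) :=
    Submodule.smul_mono le_rfl inf_le_right h1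
  rw [Submodule.mem_ideal_smul_span_iff_exists_sum] at h2
  obtain ⟨b, hb, hsum⟩ := h2
  refine ⟨fun j => b j, fun j => hb j, ?_⟩
  rw [← hsum, Finsupp.sum_fintype _ _ (fun j => by simp)]

theorem sum_mul_mem {ι : Type*} [Fintype ι] {p q : ℕ} {a d : ι → S} (ha : ∀ i, a i ∈ M ^ p)
    (hd : ∀ i, d i ∈ M ^ q) : ∑ i, a i * d i ∈ M ^ (p + q) :=
  Submodule.sum_mem _ fun i _ => by rw [pow_add]; exact Ideal.mul_mem_mul (ha i) (hd i)

theorem comb_sub_comb_mem {f f' a : Fin r → S} {p q : ℕ} (ha : ∀ i, a i ∈ M ^ p)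
    (hd : ∀ i, f' i - f i ∈ M ^ q) : comb f' a - comb f a ∈ M ^ (p + q) := by
  rw [comb_apply, comb_apply, ← Finset.sum_sub_distrib]
  simp only [← mul_sub]
  exact sum_mul_mem M ha hd

theorem sup_pow_le (f f' : Fin r → S) (N : ℕ) (hd : ∀ i, f' i - f i ∈ M ^ (N + 1)) :
    Ideal.span (Set.range f') ≤ Ideal.span (Set.range f) ⊔ M ^ (N + 1) := by
  rw [Ideal.span_le]
  rintro _ ⟨i, rfl⟩
  rw [show f' i = f i + (f' i - f i) by ring]
  exact add_mem (Ideal.mem_sup_left (Ideal.subset_span ⟨i, rfl⟩)) (Ideal.mem_sup_right (hd i))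

/-- The initial ideals of the two ideals agree. -/
theorem exists_bound [IsNoetherianRing S] (f : Fin r → S) (s : Fin l → Fin r → S)
    (hs : ∀ a, comb f a = 0 → a ∈ Submodule.span S (Set.range s)) :
    ∃ c, ∀ N, c ≤ N → ∀ (f' : Fin r → S) (s' : Fin l → Fin r → S),
      (∀ i, f' i - f i ∈ M ^ (N + 1)) → (∀ j i, s' j i - s j i ∈ M ^ (N + 1)) →
      (∀ j, comb f' (s' j) = 0) → ∀ n,
        M ^ n ⊓ (Ideal.span (Set.range f) ⊔ M ^ (n + 1)) =
          M ^ n ⊓ (Ideal.span (Set.range f') ⊔ M ^ (n + 1)) := by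
  obtain ⟨c₁, hc₁⟩ := exists_artinRees_comb M f
  obtain ⟨c₂, hc₂⟩ := exists_artinRees_rel M s
  refine ⟨c₁ + c₂, fun N hN f' s' hf hs' hrel n => ?_⟩
  have small : ∀ {m}, m ≤ N → Ideal.span (Set.range f') ⊔ M ^ (m + 1) = Ideal.span (Set.range f) ⊔ M ^ (m + 1) := by
    intro m hm
    have hle : M ^ (N + 1) ≤ M ^ (m + 1) := Ideal.pow_le_pow_right (by omega)
    refine le_antisymm (sup_le ((sup_pow_le M f f' N hf).trans (sup_le_sup_left hle _)) le_sup_right)
      (sup_le ((sup_pow_le M f' f N fun i => ?_).trans (sup_le_sup_left hle _)) le_sup_right)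
    rw [← neg_sub]
    exact neg_mem (hf i)
  by_cases hn : n ≤ N
  · rw [small hn]
  apply le_antisymm
  · rintro g ⟨hg, hg'⟩
    refine ⟨hg, ?_⟩
    obtain ⟨u, hu, v, hv, rfl⟩ := Submodule.mem_sup.1 hg'
    have hu' : u ∈ M ^ n := by
      have := sub_mem hg (Ideal.pow_le_pow_right (Nat.le_succ n) hv)
      simpa using this
    obtain ⟨a, ha, rfl⟩ := hc₁ n (by omega) u hu' hu
    have h1 : comb f' a - comb f a ∈ M ^ (n + 1) :=
      Ideal.pow_le_pow_right (by omega) (comb_sub_comb_mem M ha hf)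
    refine Submodule.mem_sup.2 ⟨comb f' a, comb_mem f' a, v - (comb f' a - comb f a), sub_mem hv h1, by ring⟩
  · rintro g ⟨hg, hg'⟩
    refine ⟨hg, ?_⟩
    obtain ⟨u, hu, v, hv, rfl⟩ := Submodule.mem_sup.1 hg'
    have hu' : u ∈ M ^ n := by
      have := sub_mem hg (Ideal.pow_le_pow_right (Nat.le_succ n) hv)
      simpa using this
    -- improve the coefficients
    have key : ∀ j, j ≤ n - c₁ → ∃ a : Fin r → S, (∀ i, a i ∈ M ^ j) ∧ comb f' a = u := by
      intro j
      induction j with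
      | zero =>
        intro _
        obtain ⟨a, ha⟩ := exists_comb hu
        exact ⟨a, fun i => by simp, ha⟩
      | succ j ih =>
        intro hj
        obtain ⟨a, ha, hau⟩ := ih (by omega)
        let p := min n (j + (N + 1))
        have h1 : comb f a ∈ M ^ p := by
          have h2 : comb f' a - comb f a ∈ M ^ p := Ideal.pow_le_pow_right (min_le_right _ _) (comb_sub_comb_mem M ha hf)
          have h3 : comb f' a ∈ M ^ p := Ideal.pow_le_pow_right (min_le_left _ _) (hau ▸ hu')
          simpa using sub_mem h3 h2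
        obtain ⟨a', ha', haa'⟩ := hc₁ p (by omega) _ h1 (comb_mem f a)
        have hK : a - a' ∈ Submodule.span S (Set.range s) := hs _ (by rw [map_sub, haa', sub_self])
        have hp : j + 1 ≤ p - c₁ := by omega
        have hKM : ∀ i, (a - a') i ∈ M ^ j := fun i =>
          sub_mem (ha i) (Ideal.pow_le_pow_right (by omega) (ha' i))
        obtain ⟨b, hb, hbs⟩ : ∃ b : Fin l → S, (∀ k, b k ∈ M ^ (j - c₂)) ∧ ∑ k, b k • s k = a - a' := by
          by_cases hjc : c₂ ≤ j
          · exact hc₂ j hjc _ hK hKM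
          · obtain ⟨b, hb⟩ := (Submodule.mem_span_range_iff_exists_fun S).1 hK
            exact ⟨b, fun k => by rw [Nat.sub_eq_zero_of_le (by omega)]; simp, hb⟩
        refine ⟨a - ∑ k, b k • s' k, fun i => ?_, ?_⟩
        · have e : (a - ∑ k, b k • s' k) i = a' i - ∑ k, b k * (s' k i - s k i) := by
            have h4 := congrFun hbs i
            simp only [Pi.sub_apply, Finset.sum_apply, Pi.smul_apply, smul_eq_mul] at h4 ⊢
            simp only [mul_sub, Finset.sum_sub_distrib]
            rw [h4]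
            ring
          rw [e]
          refine sub_mem (Ideal.pow_le_pow_right hp (ha' i)) ?_
          exact Ideal.pow_le_pow_right (by omega) (sum_mul_mem M hb fun k => hs' k i)
        · simp [map_sub, map_sum, map_smul, hrel, hau]
    obtain ⟨a, ha, hau⟩ := key (n - c₁) le_rfl
    subst hau
    have h1 : comb f' a - comb f a ∈ M ^ (n + 1) :=
      Ideal.pow_le_pow_right (by omega) (comb_sub_comb_mem M ha hf)
    exact Submodule.mem_sup.2 ⟨comb f a, comb_mem f a, v + (comb f' a - comb f a), add_mem hv h1, by ring⟩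

end Groth.Agent.AlgzLib
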