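import Groth.Agent.PopescuLib.CommAlg
import Groth.Agent.PopescuLib.GRingCompletion
import Groth.Agent.PopescuLib.EtalePoint
import Groth.Agent.PopescuLib.Main
import Groth.Agent.PopescuLib.Noetherian
import Groth.Agent.PopescuLib.Approx
import Groth.Agent.CplFib6.GRingStable
import Mathlib.RingTheory.AdicCompletion.RingHom

/-!
The completion of a polynomial ring, presentations of complete local algebras, and étale points.
-/

set_option autoImplicit false

universe u

open MvPolynomial

noncomputable section

namespace Groth.Agent.AlgzLib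

section Completion

variable {P : Type u} [CommRing P] {m : Ideal P} (fg : m.FG)

/-- The extended ideal in the completion. -/
abbrev cplIdeal (m : Ideal P) : Ideal (AdicCompletion m P) := m.map (algebraMap P (AdicCompletion m P))

include fg in
theorem mem_pow_iff (j : ℕ) (x : AdicCompletion m P) :
    x ∈ cplIdeal m ^ j ↔ AdicCompletion.evalₐ m j x = 0 := by
  rw [← Ideal.map_pow]
  refine ⟨fun hx => ?_, Groth.Agent.PopescuLib.mem_map_of_evalₐ_eq_zero m fg _⟩
  exact (Ideal.map_le_iff_le_comap.2 (fun z hz => by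
    show AdicCompletion.evalₐ m j (algebraMap P _ z) = 0
    rw [AlgHom.commutes]; exact Ideal.Quotient.eq_zero_iff_mem.2 hz) :
    (m ^ j).map (algebraMap P (AdicCompletion m P)) ≤ RingHom.ker (AdicCompletion.evalₐ m j)) hx

include fg in
theorem algebraMap_mem_iff (j : ℕ) (p : P) :
    algebraMap P (AdicCompletion m P) p ∈ cplIdeal m ^ j ↔ p ∈ m ^ j := by
  rw [mem_pow_iff fg, AlgHom.commutes]
  exact Ideal.Quotient.eq_zero_iff_mem

include fg in
theorem exists_sub_mem (j : ℕ) (x : AdicCompletion m P) :
    ∃ p : P, x - algebraMap P (AdicCompletion m P) p ∈ cplIdeal m ^ j := by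
  obtain ⟨p, hp⟩ := Ideal.Quotient.mk_surjective (AdicCompletion.evalₐ m j x)
  refine ⟨p, ?_⟩
  rw [mem_pow_iff fg, map_sub, AlgHom.commutes, ← hp]
  exact sub_self _

variable {A' : Type u} [CommRing A'] [Algebra P A'] (ψ : A' →ₐ[P] AdicCompletion m P)

/-- The point of the étale neighbourhood. -/
abbrev pt : Ideal A' := (cplIdeal m).comap ψ.toRingHom

include fg in
/-- An étale algebra with a point in the completion has the same infinitesimal neighbourhoods. -/
theorem apply_mem_iff [Algebra.FormallyUnramified P A'] (j : ℕ) (x : A') :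
    ψ x ∈ cplIdeal m ^ j ↔ x ∈ pt ψ ^ j := by
  constructor
  · intro hx
    rcases Nat.eq_zero_or_pos j with rfl | hj
    · simp
    have hle : m ^ j ≤ (pt ψ ^ j).comap (algebraMap P A') := by
      rw [← Ideal.map_le_iff_le_comap, Ideal.map_pow]
      refine Ideal.pow_right_mono ?_ j
      rw [Ideal.map_le_iff_le_comap]
      intro p hp
      show ψ (algebraMap P A' p) ∈ cplIdeal m
      rw [AlgHom.commutes]
      exact Ideal.mem_map_of_mem _ hp
    let θ : P ⧸ m ^ j →+* A' ⧸ pt ψ ^ j :=
      Ideal.Quotient.lift (m ^ j) ((Ideal.Quotient.mk (pt ψ ^ j)).comp (algebraMap P A')) fun p hp =>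
        Ideal.Quotient.eq_zero_iff_mem.2 (hle hp)
    let e : A' →ₐ[P] A' ⧸ pt ψ ^ j :=
      ⟨θ.comp ((AdicCompletion.evalₐ m j).comp ψ).toRingHom, fun p => by
        show θ (AdicCompletion.evalₐ m j (ψ (algebraMap P A' p))) = _
        rw [AlgHom.commutes, AlgHom.commutes]
        rfl⟩
    have heq : e = Ideal.Quotient.mkₐ P (pt ψ ^ j) := by
      refine Algebra.FormallyUnramified.ext ((pt ψ).map (Ideal.Quotient.mk (pt ψ ^ j))) ⟨j, ?_⟩ fun y => ?_
      · rw [← Ideal.map_pow]
        exact Ideal.map_quotient_self _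
      · obtain ⟨p, hp⟩ := exists_sub_mem fg j (ψ y)
        have h1 : e y = Ideal.Quotient.mk _ (algebraMap P A' p) := by
          show θ (AdicCompletion.evalₐ m j (ψ y)) = _
          rw [mem_pow_iff fg, map_sub, AlgHom.commutes, sub_eq_zero] at hp
          rw [hp]
          rfl
        rw [h1, Ideal.Quotient.eq, Ideal.Quotient.mkₐ_eq_mk, ← map_sub]
        refine Ideal.mem_map_of_mem _ ?_
        show ψ (algebraMap P A' p - y) ∈ cplIdeal m
        rw [map_sub, AlgHom.commutes, ← neg_sub]
        exact neg_mem (Ideal.pow_le_self (by omega) hp)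
    have h2 := DFunLike.congr_fun heq x
    change θ (AdicCompletion.evalₐ m j (ψ x)) = Ideal.Quotient.mk _ x at h2
    rw [(mem_pow_iff fg j _).1 hx, map_zero] at h2
    exact Ideal.Quotient.eq_zero_iff_mem.1 h2.symm
  · intro hx
    have h1 : (pt ψ ^ j).map ψ.toRingHom ≤ cplIdeal m ^ j := by
      rw [Ideal.map_pow]
      exact Ideal.pow_right_mono Ideal.map_comap_le j
    exact h1 (Ideal.mem_map_of_mem _ hx)

include fg in
theorem exists_apply_sub_mem (j : ℕ) (t : AdicCompletion m P) : ∃ x : A', ψ x - t ∈ cplIdeal m ^ j := by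
  obtain ⟨p, hp⟩ := exists_sub_mem fg j t
  refine ⟨algebraMap P A' p, ?_⟩
  rw [AlgHom.commutes, ← neg_sub]
  exact neg_mem hp

end Completion

section Approximation

variable (k : Type u) [Field k] [IsAlgClosed k] {P : Type u} [CommRing P] [Algebra k P] [Algebra.FiniteType k P]
  (m : Ideal P) [m.IsMaximal]

include k in
/-- Artin approximation for a finite system of equations, with values in an étale neighbourhood. -/
theorem exists_etale_solution {V : Type u} [Finite V] (E : Finset (MvPolynomial V P))
    (v : V → AdicCompletion m P) (hv : ∀ e ∈ E, aeval v e = 0) (N : ℕ) :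
    ∃ (A' : Type u) (_ : CommRing A') (_ : Algebra P A') (_ : Algebra.Etale P A')
      (ψ : A' →ₐ[P] AdicCompletion m P) (v' : V → A'),
      (∀ e ∈ E, aeval v' e = 0) ∧ ∀ i, ψ (v' i) - v i ∈ cplIdeal m ^ (N + 1) := by
  classical
  haveI : IsAdicComplete (IsLocalRing.maximalIdeal k) k := by
    rw [IsLocalRing.maximalIdeal_eq_bot]; infer_instance
  have hG : CAlg.IsGRing P := Groth.Agent.CplFib6.isGRing_of_finiteType (Groth.Agent.CplFib6.isGRing_of_complete k) P
  haveI : IsNoetherianRing P := hG.1
  let T := AdicCompletion m P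
  haveI := Groth.Agent.PopescuLib.noetherian_completion m
  have hreg := Groth.Agent.PopescuLib.isRegularHom_adicCompletion P (fun n _ => hG.2 n) m
  have fg : m.FG := IsNoetherian.noetherian m
  haveI : (cplIdeal m).IsMaximal := AdicCompletion.isMaximal_map_of_le _ _ le_rfl fg
  haveI := AdicCompletion.isAdicComplete_self _ fg
  haveI : IsLocalRing T := isLocalRing_of_isAdicComplete_maximal (cplIdeal m)
  have hmax : IsLocalRing.maximalIdeal T = cplIdeal m := (IsLocalRing.eq_maximalIdeal ‹_›).symm
  haveI : IsAdicComplete (IsLocalRing.maximalIdeal T) T := by rw [hmax]; infer_instance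
  let J : Ideal (MvPolynomial V P) := Ideal.span (E : Set (MvPolynomial V P))
  have hJ : ∀ e ∈ J, aeval (R := P) v e = 0 := fun e he =>
    (Ideal.span_le.2 fun x hx => RingHom.mem_ker.2 (hv x hx) :
      J ≤ RingHom.ker (aeval (R := P) v : MvPolynomial V P →ₐ[P] T)) he
  let f : (MvPolynomial V P ⧸ J) →ₐ[P] T := Ideal.Quotient.liftₐ J (aeval v) hJ
  haveI : Algebra.FinitePresentation P (MvPolynomial V P ⧸ J) :=
    Algebra.FinitePresentation.quotient ⟨E, rfl⟩
  obtain ⟨S, _, _, hS, g, h, hgh⟩ := Groth.Agent.PopescuLib.indSmooth_of_isRegularHom hreg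
    (MvPolynomial V P ⧸ J) inferInstance f
  haveI := hS
  obtain ⟨A', _, _, hA', ψ, β, hβ⟩ := Groth.Agent.PopescuLib.exists_etale_point h (Nat.succ_pos N) fun l t => by
    choose x hx using fun i => exists_sub_mem fg (N + 1) (t i)
    refine ⟨P, inferInstance, inferInstance, inferInstance, Algebra.ofId P T, x, fun i => ?_⟩
    rw [hmax]
    exact hx i
  let q : MvPolynomial V P →ₐ[P] A' := (β.comp g).comp (Ideal.Quotient.mkₐ P J)
  refine ⟨A', inferInstance, inferInstance, hA', ψ, fun i => q (X i), fun e he => ?_, fun i => ?_⟩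
  · have h1 : aeval (fun i => q (X i)) = q := by
      ext i; simp
    rw [h1]
    show β (g (Ideal.Quotient.mk J e)) = 0
    rw [Ideal.Quotient.eq_zero_iff_mem.2 (Ideal.subset_span he), map_zero, map_zero]
  · have h1 := hβ (g (Ideal.Quotient.mk J (X i)))
    have h2 : h (g (Ideal.Quotient.mk J (X i))) = v i := by
      have := DFunLike.congr_fun hgh (Ideal.Quotient.mk J (X i))
      simp only [AlgHom.comp_apply] at this
      rw [this]
      exact aeval_X v i
    rw [h2, hmax] at h1
    rw [← neg_sub]
    exact neg_mem h1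

end Approximation

section Presentation

variable (k : Type u) [Field k] (n : ℕ)

/-- The origin of affine space. -/
abbrev origin : Ideal (MvPolynomial (Fin n) k) := RingHom.ker (constantCoeff : MvPolynomial (Fin n) k →+* k)

instance : (origin k n).IsMaximal :=
  RingHom.ker_isMaximal_of_surjective _ fun c => ⟨C c, constantCoeff_C _ c⟩

/-- A complete Noetherian local algebra with residue field `k` is a quotient of a completed polynomial ring. -/
theorem exists_presentation (R : Type u) [CommRing R] [Algebra k R] [IsLocalRing R] [IsNoetherianRing R]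
    [IsAdicComplete (IsLocalRing.maximalIdeal R) R]
    (hres : Function.Surjective (fun c : k => IsLocalRing.residue R (algebraMap k R c))) :
    ∃ (n : ℕ) (π : AdicCompletion (origin k n) (MvPolynomial (Fin n) k) →+* R), Function.Surjective π ∧
      (cplIdeal (origin k n)).map π = IsLocalRing.maximalIdeal R ∧
      ∀ c, π (algebraMap _ _ (C c : MvPolynomial (Fin n) k)) = algebraMap k R c := by
  let mR := IsLocalRing.maximalIdeal R
  obtain ⟨n, x, hx⟩ := Submodule.fg_iff_exists_fin_generating_family.1 (IsNoetherian.noetherian mR)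
  let P := MvPolynomial (Fin n) k
  let m := origin k n
  let a : P →ₐ[k] R := aeval x
  have hxm : ∀ i, x i ∈ mR := fun i => hx ▸ Submodule.subset_span ⟨i, rfl⟩
  have hres0 : ∀ p : P, IsLocalRing.residue R (a p) = IsLocalRing.residue R (algebraMap k R (constantCoeff p)) := by
    have : (IsLocalRing.residue R).comp a.toRingHom =
        ((IsLocalRing.residue R).comp (algebraMap k R)).comp constantCoeff := by
      refine MvPolynomial.ringHom_ext (fun c => congrArg (IsLocalRing.residue R) ((aeval_C _ _).trans (by simp))) fun i => ?_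
      rw [RingHom.comp_apply, RingHom.comp_apply, RingHom.comp_apply, constantCoeff_X, map_zero, map_zero]
      refine Ideal.Quotient.eq_zero_iff_mem.2 ?_
      show a (X i) ∈ mR
      rw [show a (X i) = x i from aeval_X _ _]
      exact hxm i
    exact fun p => DFunLike.congr_fun this p
  have hle : m ≤ mR.comap a.toRingHom := fun p hp => by
    show a p ∈ mR
    apply Ideal.Quotient.eq_zero_iff_mem.1
    show IsLocalRing.residue R (a p) = 0
    rw [hres0, RingHom.mem_ker.1 hp, map_zero, map_zero]
  have hlej : ∀ j, m ^ j ≤ (mR ^ j).comap a.toRingHom := fun j => by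
    rw [← Ideal.map_le_iff_le_comap, Ideal.map_pow]
    exact Ideal.pow_right_mono (Ideal.map_le_iff_le_comap.2 hle) j
  have fg : m.FG := IsNoetherian.noetherian m
  let fj : ∀ j, AdicCompletion m P →+* R ⧸ mR ^ j := fun j =>
    (Ideal.quotientMap (mR ^ j) a.toRingHom (hlej j)).comp (AdicCompletion.evalₐ m j).toRingHom
  have hfj : ∀ j (t : AdicCompletion m P) (p : P), t - algebraMap P _ p ∈ cplIdeal m ^ j →
      fj j t = Ideal.Quotient.mk _ (a p) := fun j t p hp => by
    rw [mem_pow_iff fg, map_sub, AlgHom.commutes, sub_eq_zero] at hp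
    show Ideal.quotientMap (mR ^ j) a.toRingHom (hlej j) (AdicCompletion.evalₐ m j t) = _
    rw [hp]
    rfl
  have hcompat : ∀ {i j : ℕ} (hle : i ≤ j), (Ideal.Quotient.factorPow mR hle).comp (fj j) = fj i := by
    intro i j hij
    refine RingHom.ext fun t => ?_
    obtain ⟨p, hp⟩ := exists_sub_mem fg j t
    rw [RingHom.comp_apply, hfj j t p hp, hfj i t p (Ideal.pow_le_pow_right hij hp)]
    rfl
  let π := IsAdicComplete.liftRingHom mR fj hcompat
  have hπ : ∀ p : P, π (algebraMap P _ p) = a p := fun p => by
    apply sub_eq_zero.1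
    refine IsHausdorff.haus (inferInstance : IsHausdorff mR R) _ fun j => ?_
    rw [SModEq.sub_mem, sub_zero, smul_eq_mul, Ideal.mul_top, ← Ideal.Quotient.eq,
      IsAdicComplete.mk_liftRingHom]
    exact hfj j _ p (by rw [sub_self]; exact zero_mem _)
  have hmap : (cplIdeal m).map π = mR := by
    rw [cplIdeal, Ideal.map_map]
    apply le_antisymm
    · rw [Ideal.map_le_iff_le_comap]
      intro p hp
      show π (algebraMap P _ p) ∈ mR
      rw [hπ]
      exact hle hp
    · refine hx.ge.trans (Submodule.span_le.2 ?_)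
      rintro _ ⟨i, rfl⟩
      have : π.comp (algebraMap P _) (X i) = x i := by rw [RingHom.comp_apply, hπ]; exact aeval_X x i
      rw [SetLike.mem_coe, ← this]
      exact Ideal.mem_map_of_mem _ (by simp [m])
  refine ⟨n, π, ?_, hmap, fun c => ?_⟩
  · haveI := AdicCompletion.isAdicComplete_self _ fg
    haveI : IsHausdorff ((cplIdeal m).map π) R := by rw [hmap]; infer_instance
    refine surjective_of_mk_map_comp_surjective (I := cplIdeal m) π fun y => ?_
    obtain ⟨r, rfl⟩ := Ideal.Quotient.mk_surjective y
    obtain ⟨c, hc⟩ := hres (IsLocalRing.residue R r)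
    refine ⟨algebraMap P _ (C c), ?_⟩
    rw [RingHom.comp_apply, hπ, Ideal.Quotient.eq, hmap]
    rw [show a (C c) = algebraMap k R c from aeval_C _ _]
    exact Ideal.Quotient.eq.1 hc
  · rw [hπ]; exact aeval_C _ _

end Presentation

end Groth.Agent.AlgzLib
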