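import Groth.Agent.AdicGrLib.Basic
import Mathlib.RingTheory.ReesAlgebra

/-!
Comparison of associated graded rings of two quotients with the same initial ideal.
-/

set_option autoImplicit false

universe u

open Polynomial FiltBl

noncomputable section

namespace Groth.Agent.AlgzLib

variable {S B B₁ B₂ : Type u} [CommRing S] [CommRing B] [CommRing B₁] [CommRing B₂]

theorem map_apply_eq_zero_iff {φ : S →+* B} {𝓕 : IdealFiltration S} {𝓖 : IdealFiltration B}
    (h : AssocGr.IsFiltHom φ 𝓕 𝓖) (f : 𝓕.rees) :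
    AssocGr.map h (AssocGr.mkG 𝓕 f) = 0 ↔ ∀ n, φ ((f : S[X]).coeff n) ∈ 𝓖.F (n + 1) := by
  rw [AssocGr.map_mkG, AssocGr.mkG_eq_zero_iff, AssocGr.mem_succIdeal_iff]
  simp only [AssocGr.coe_reesMap, Polynomial.coeff_map]

/-- Two filtered images of one ring with the same initial ideal have the same graded ring. -/
theorem exists_equiv_of_key' (M : Ideal S) {m₁ : Ideal B₁} {m₂ : Ideal B₂} (π₁ : S →+* B₁) (π₂ : S →+* B₂)
    (hm₁ : M.map π₁ ≤ m₁) (hm₂ : M.map π₂ ≤ m₂)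
    (hs₁ : ∀ n, ∀ b ∈ m₁ ^ n, ∃ a ∈ M ^ n, π₁ a - b ∈ m₁ ^ (n + 1))
    (hs₂ : ∀ n, ∀ b ∈ m₂ ^ n, ∃ a ∈ M ^ n, π₂ a - b ∈ m₂ ^ (n + 1))
    (key : ∀ n, ∀ a ∈ M ^ n, π₁ a ∈ m₁ ^ (n + 1) ↔ π₂ a ∈ m₂ ^ (n + 1)) :
    ∃ e : AssocGr.GrRing (IdealFiltration.adic m₁) ≃+* AssocGr.GrRing (IdealFiltration.adic m₂),
      ∀ (n : ℕ) (a : S) (ha₁ : π₁ a ∈ m₁ ^ n) (ha₂ : π₂ a ∈ m₂ ^ n), a ∈ M ^ n →
        e (AssocGr.inDeg (IdealFiltration.adic m₁) n ⟨π₁ a, ha₁⟩ : AssocGr.GrRing (IdealFiltration.adic m₁)) =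
          (AssocGr.inDeg (IdealFiltration.adic m₂) n ⟨π₂ a, ha₂⟩ : AssocGr.GrRing (IdealFiltration.adic m₂)) := by
  let F₁ := AssocGr.IsFiltHom.adic (φ := π₁) hm₁
  let F₂ := AssocGr.IsFiltHom.adic (φ := π₂) hm₂
  have hs₁ := AdicGrLib.map_surjective F₁ hs₁
  have hs₂ := AdicGrLib.map_surjective F₂ hs₂
  have hker : RingHom.ker (AssocGr.map F₁) = RingHom.ker (AssocGr.map F₂) := by
    ext x
    obtain ⟨f, rfl⟩ := AssocGr.mkG_surjective _ x
    rw [RingHom.mem_ker, RingHom.mem_ker, map_apply_eq_zero_iff, map_apply_eq_zero_iff]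
    exact forall_congr' fun n => key n _ (f.2 n)
  refine ⟨(RingHom.quotientKerEquivOfSurjective hs₁).symm.trans
    ((Ideal.quotEquivOfEq hker).trans (RingHom.quotientKerEquivOfSurjective hs₂)), fun n a ha₁ ha₂ ha => ?_⟩
  have e1 := AssocGr.map_inDeg F₁ n ⟨a, ha⟩
  have e2 := AssocGr.map_inDeg F₂ n ⟨a, ha⟩
  refine Eq.trans ?_ e2
  rw [RingEquiv.trans_apply, RingEquiv.trans_apply]
  have h3 : (RingHom.quotientKerEquivOfSurjective hs₁).symm
      (AssocGr.inDeg (IdealFiltration.adic m₁) n ⟨π₁ a, ha₁⟩ : AssocGr.GrRing (IdealFiltration.adic m₁)) =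
      Ideal.Quotient.mk _ (AssocGr.inDeg (IdealFiltration.adic M) n ⟨a, ha⟩ : AssocGr.GrRing (IdealFiltration.adic M)) := by
    rw [RingEquiv.symm_apply_eq, RingHom.quotientKerEquivOfSurjective_apply_mk]
    exact e1.symm
  rw [h3, Ideal.quotEquivOfEq_mk, RingHom.quotientKerEquivOfSurjective_apply_mk]

theorem inDeg_congr (𝓕 : IdealFiltration B) (n : ℕ) {a b : 𝓕.F n} (h : (a : B) - b ∈ 𝓕.F (n + 1)) :
    AssocGr.inDeg 𝓕 n a = AssocGr.inDeg 𝓕 n b := by
  rw [← sub_eq_zero, ← map_sub, AssocGr.inDeg_eq_zero_iff]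
  exact h

theorem rees_adic (I : Ideal B) : (IdealFiltration.adic I).rees = reesAlgebra I :=
  SetLike.ext fun _ => Iff.rfl

instance isNoetherianRing_grRing [IsNoetherianRing B] (I : Ideal B) :
    IsNoetherianRing (AssocGr.GrRing (IdealFiltration.adic I)) := by
  haveI : IsNoetherianRing ↥(IdealFiltration.adic I).rees := by
    rw [rees_adic]
    infer_instance
  exact isNoetherianRing_of_surjective _ _ (AssocGr.mkG (IdealFiltration.adic I)).toRingHom
    (AssocGr.mkG_surjective _)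

/-- A surjective endomorphism of a Noetherian ring is bijective. -/
theorem injective_of_surjective_endo [IsNoetherianRing B] (f : B →+* B) (hf : Function.Surjective f) :
    Function.Injective f := by
  let g : ℕ →o Ideal B := ⟨fun n => RingHom.ker (f ^ n), monotone_nat_of_le_succ fun n x hx => by
    rw [RingHom.mem_ker] at hx ⊢
    rw [pow_succ', RingHom.mul_def, RingHom.comp_apply, hx, map_zero]⟩
  obtain ⟨n, hn⟩ := monotone_stabilizes_iff_noetherian.2 inferInstance g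
  rw [injective_iff_map_eq_zero]
  intro x hx
  have hsurj : ∀ m, Function.Surjective ⇑(f ^ m) := fun m => by
    induction m with
    | zero => exact fun y => ⟨y, rfl⟩
    | succ m ih => rw [pow_succ', RingHom.mul_def]; exact hf.comp ih
  obtain ⟨y, rfl⟩ := hsurj n x
  have h1 : y ∈ g (n + 1) := by
    show y ∈ RingHom.ker (f ^ (n + 1))
    rw [RingHom.mem_ker, pow_succ', RingHom.mul_def, RingHom.comp_apply, hx]
  rw [← hn (n + 1) (Nat.le_succ n)] at h1
  exact RingHom.mem_ker.1 h1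

end Groth.Agent.AlgzLib
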