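import Groth.Agent.AlgzLib.Core
import Groth.Agent.AlgzLib.Gr
import Groth.Agent.AlgzLib.Data

/-!
Approximation of a complete local algebra by one of finite type, with the same associated graded ring.
-/

set_option autoImplicit false

universe u

open MvPolynomial CategoryTheory Limits FiltBl

noncomputable section

namespace Groth.Agent.AlgzLib

theorem apply_mem_map_iff {S B : Type u} [CommRing S] [CommRing B] (π : S →+* B) (hπ : Function.Surjective π)
    (I : Ideal S) (hI : RingHom.ker π = I) (J : Ideal S) (t : S) : π t ∈ J.map π ↔ t ∈ I ⊔ J := by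
  rw [← Ideal.mem_comap, Ideal.comap_map_of_surjective π hπ, ← RingHom.ker_eq_comap_bot, hI, sup_comm]

section Model

variable {k : Type u} [Field k] {T R A' : Type u} [CommRing T] [CommRing R] [Algebra k R] [IsLocalRing R]
  [CommRing A'] [Algebra k A'] {r : ℕ}

/-- The finite type model and its comparison with the complete ring. -/
theorem exists_model (M : Ideal T) [M.IsMaximal] (ψ : A' →+* T)
    (happ : ∀ j t, ∃ x, ψ x - t ∈ M ^ j) (hmem : ∀ j x, ψ x ∈ M ^ j ↔ x ∈ (M.comap ψ) ^ j)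
    (π : T →+* R) (hπ : Function.Surjective π) (hmap : M.map π = IsLocalRing.maximalIdeal R)
    (hc : ∀ c : k, π (ψ (algebraMap k A' c)) = algebraMap k R c)
    (hres : Function.Surjective (fun c : k => IsLocalRing.residue R (algebraMap k R c)))
    (f : Fin r → T) (hf : RingHom.ker π = Ideal.span (Set.range f)) (g : Fin r → A') (N : ℕ)
    (hkey : ∀ n, M ^ n ⊓ (Ideal.span (Set.range f) ⊔ M ^ (n + 1)) =
      M ^ n ⊓ (Ideal.span (Set.range fun i => ψ (g i)) ⊔ M ^ (n + 1)))
    (hclose : ∀ i, ψ (g i) - f i ∈ M ^ (N + 1)) :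
    let J : Ideal A' := Ideal.span (Set.range g)
    let m : Ideal (A' ⧸ J) := (M.comap ψ).map (Ideal.Quotient.mk J)
    m.IsMaximal ∧ Function.Surjective (fun c : k => Ideal.Quotient.mk m (algebraMap k (A' ⧸ J) c)) ∧
    ∃ φ : (R ⧸ IsLocalRing.maximalIdeal R ^ (N + 1)) ≃ₐ[k] ((A' ⧸ J) ⧸ m ^ (N + 1)),
      (∀ x, φ (Ideal.Quotient.mk _ (π (ψ x))) = Ideal.Quotient.mk _ (Ideal.Quotient.mk J x)) ∧
      ∃ e : AssocGr.GrRing (IdealFiltration.adic (IsLocalRing.maximalIdeal R)) ≃+*
          AssocGr.GrRing (IdealFiltration.adic m),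
        (∀ (n : ℕ) (x : AssocGr.GrRing (IdealFiltration.adic (IsLocalRing.maximalIdeal R))),
            x ∈ AssocGr.gr (IdealFiltration.adic (IsLocalRing.maximalIdeal R)) n →
              e x ∈ AssocGr.gr (IdealFiltration.adic m) n) ∧
        ∀ c : k, e (algebraMap R _ (algebraMap k R c)) =
          algebraMap (A' ⧸ J) _ (algebraMap k (A' ⧸ J) c) := by
  intro J m
  have hR : ∀ j t, π t ∈ IsLocalRing.maximalIdeal R ^ j ↔ t ∈ Ideal.span (Set.range f) ⊔ M ^ j := fun j t => by
    rw [← hmap, ← Ideal.map_pow]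
    exact apply_mem_map_iff π hπ _ hf _ t
  have hA : ∀ j x, Ideal.Quotient.mk J x ∈ m ^ j ↔ x ∈ J ⊔ (M.comap ψ) ^ j := fun j x => by
    rw [← Ideal.map_pow]
    exact apply_mem_map_iff _ Ideal.Quotient.mk_surjective _ Ideal.mk_ker _ x
  have hT : ∀ j x, x ∈ J ⊔ (M.comap ψ) ^ j ↔ ψ x ∈ Ideal.span (Set.range fun i => ψ (g i)) ⊔ M ^ j := by
    intro j x
    constructor
    · intro hx
      obtain ⟨y, hy, z, hz, rfl⟩ := Submodule.mem_sup.1 hx
      rw [map_add]
      refine add_mem (Ideal.mem_sup_left ?_) (Ideal.mem_sup_right ((hmem j z).2 hz))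
      have := Ideal.mem_map_of_mem ψ hy
      rwa [Ideal.map_span, ← Set.range_comp] at this
    · intro hx
      obtain ⟨y, hy, z, hz, hyz⟩ := Submodule.mem_sup.1 hx
      obtain ⟨a, rfl⟩ := exists_comb hy
      choose b hb using fun i => happ j (a i)
      have h1 : comb g b ∈ J := comb_mem g b
      rw [show x = comb g b + (x - comb g b) by ring]
      refine add_mem (Ideal.mem_sup_left h1) (Ideal.mem_sup_right ((hmem j _).1 ?_))
      rw [map_sub, ← hyz, comb_apply, comb_apply, map_sum, add_comm, add_sub_assoc, ← Finset.sum_sub_distrib]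
      refine add_mem hz (Submodule.sum_mem _ fun i _ => ?_)
      rw [map_mul, ← sub_mul]
      refine Ideal.mul_mem_right _ _ ?_
      rw [← neg_sub]
      exact neg_mem (hb i)
  have hclose' : Ideal.span (Set.range f) ⊔ M ^ (N + 1) =
      Ideal.span (Set.range fun i => ψ (g i)) ⊔ M ^ (N + 1) :=
    le_antisymm (sup_le (sup_pow_le M _ f N fun i => by rw [← neg_sub]; exact neg_mem (hclose i)) le_sup_right)
      (sup_le (sup_pow_le M f _ N hclose) le_sup_right)
  have hfM : Ideal.span (Set.range f) ≤ M := by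
    have h1 : M ≤ (IsLocalRing.maximalIdeal R).comap π := Ideal.map_le_iff_le_comap.1 hmap.le
    have h2 : (IsLocalRing.maximalIdeal R).comap π ≠ ⊤ :=
      Ideal.comap_ne_top π (IsLocalRing.maximalIdeal.isMaximal R).ne_top
    rw [‹M.IsMaximal›.eq_of_le h2 h1, ← hf]
    exact fun t ht => show π t ∈ IsLocalRing.maximalIdeal R by rw [RingHom.mem_ker.1 ht]; exact zero_mem _
  have hJpt : J ≤ M.comap ψ := by
    rw [Ideal.span_le]
    rintro _ ⟨i, rfl⟩
    show ψ (g i) ∈ M
    rw [show ψ (g i) = f i + (ψ (g i) - f i) by ring]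
    exact add_mem (hfM (Ideal.subset_span ⟨i, rfl⟩)) (Ideal.pow_le_self (Nat.succ_ne_zero N) (hclose i))
  have hsurj : ∀ x, ∃ c : k, x - algebraMap k A' c ∈ M.comap ψ := fun x => by
    obtain ⟨c, hc'⟩ := hres (IsLocalRing.residue R (π (ψ x)))
    refine ⟨c, ?_⟩
    have h1 : π (ψ (x - algebraMap k A' c)) ∈ IsLocalRing.maximalIdeal R ^ 1 := by
      rw [pow_one, map_sub, map_sub, hc, ← Ideal.Quotient.eq]
      exact hc'.symm
    rw [hR, pow_one, sup_eq_right.2 hfM] at h1
    exact h1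
  have hmax : m.IsMaximal := by
    haveI : (M.comap ψ).IsMaximal := by
      have h : Function.Surjective ((Ideal.Quotient.mk M).comp ψ) := fun y => by
        obtain ⟨t, rfl⟩ := Ideal.Quotient.mk_surjective y
        obtain ⟨x, hx⟩ := happ 1 t
        exact ⟨x, Ideal.Quotient.eq.2 (by rwa [pow_one] at hx)⟩
      rw [show M.comap ψ = RingHom.ker ((Ideal.Quotient.mk M).comp ψ) by
        rw [← RingHom.comap_ker, Ideal.mk_ker]]
      letI := Ideal.Quotient.field M
      exact RingHom.ker_isMaximal_of_surjective _ h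
    rcases Ideal.map_eq_top_or_isMaximal_of_surjective (Ideal.Quotient.mk J) Ideal.Quotient.mk_surjective
      ‹(M.comap ψ).IsMaximal› with h | h
    · exfalso
      have h1 : Ideal.Quotient.mk J 1 ∈ m ^ 1 := by rw [pow_one, show m = ⊤ from h]; trivial
      rw [hA, pow_one, sup_eq_right.2 hJpt] at h1
      exact ‹(M.comap ψ).IsMaximal›.ne_top ((Ideal.eq_top_iff_one _).2 h1)
    · exact h
  refine ⟨hmax, fun y => ?_, ?_⟩
  · obtain ⟨z, rfl⟩ := Ideal.Quotient.mk_surjective y
    obtain ⟨x, rfl⟩ := Ideal.Quotient.mk_surjective z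
    obtain ⟨c, hc'⟩ := hsurj x
    refine ⟨c, (Ideal.Quotient.eq.2 ?_).symm⟩
    rw [show algebraMap k (A' ⧸ J) c = Ideal.Quotient.mk J (algebraMap k A' c) from rfl, ← map_sub]
    exact Ideal.mem_map_of_mem _ hc'
  let ω : A' →ₐ[k] R ⧸ IsLocalRing.maximalIdeal R ^ (N + 1) :=
    ⟨(Ideal.Quotient.mk _).comp (π.comp ψ), fun c => congrArg (Ideal.Quotient.mk _) (hc c)⟩
  let δ : A' →ₐ[k] (A' ⧸ J) ⧸ m ^ (N + 1) :=
    (Ideal.Quotient.mkₐ k (m ^ (N + 1))).comp (Ideal.Quotient.mkₐ k J)
  have hω : Function.Surjective ω := fun y => by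
    obtain ⟨b, rfl⟩ := Ideal.Quotient.mk_surjective y
    obtain ⟨t, rfl⟩ := hπ b
    obtain ⟨x, hx⟩ := happ (N + 1) t
    refine ⟨x, Ideal.Quotient.eq.2 ?_⟩
    rw [← hmap, ← Ideal.map_pow]
    show π (ψ x) - π t ∈ _
    rw [← map_sub]
    exact Ideal.mem_map_of_mem _ hx
  have hδ : Function.Surjective δ := (Ideal.Quotient.mkₐ_surjective k _).comp (Ideal.Quotient.mkₐ_surjective k J)
  have hker : RingHom.ker ω = RingHom.ker δ := by
    ext x
    rw [RingHom.mem_ker, RingHom.mem_ker]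
    show Ideal.Quotient.mk _ (π (ψ x)) = 0 ↔ Ideal.Quotient.mk _ (Ideal.Quotient.mk J x) = 0
    rw [Ideal.Quotient.eq_zero_iff_mem, Ideal.Quotient.eq_zero_iff_mem, hR, hA, hT, hclose']
  let φ := (Ideal.quotientKerAlgEquivOfSurjective hω).symm.trans
    ((Ideal.quotientEquivAlgOfEq k hker).trans (Ideal.quotientKerAlgEquivOfSurjective hδ))
  refine ⟨φ, fun x => ?_, ?_⟩
  · have h1 : (Ideal.quotientKerAlgEquivOfSurjective hω).symm (Ideal.Quotient.mk _ (π (ψ x))) =
        Ideal.Quotient.mk _ x :=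
      (AlgEquiv.symm_apply_eq _).2 (Ideal.quotientKerAlgEquivOfSurjective_mk hω x).symm
    show (Ideal.quotientKerAlgEquivOfSurjective hδ) ((Ideal.quotientEquivAlgOfEq k hker)
      ((Ideal.quotientKerAlgEquivOfSurjective hω).symm _)) = _
    rw [h1]
    rfl
  have hs₁ : ∀ n, ∀ b ∈ IsLocalRing.maximalIdeal R ^ n, ∃ a ∈ (M.comap ψ) ^ n,
      π.comp ψ a - b ∈ IsLocalRing.maximalIdeal R ^ (n + 1) := by
    intro n b hb
    rw [← hmap, ← Ideal.map_pow, Ideal.mem_map_iff_of_surjective π hπ] at hb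
    obtain ⟨t, ht, rfl⟩ := hb
    obtain ⟨x, hx⟩ := happ (n + 1) t
    refine ⟨x, (hmem n x).1 ?_, ?_⟩
    · rw [show ψ x = t + (ψ x - t) by ring]
      exact add_mem ht (Ideal.pow_le_pow_right (Nat.le_succ n) hx)
    · rw [RingHom.comp_apply, ← map_sub, ← hmap, ← Ideal.map_pow]
      exact Ideal.mem_map_of_mem _ hx
  obtain ⟨e, he⟩ := exists_equiv_of_key' (M.comap ψ) (π.comp ψ) (Ideal.Quotient.mk J)
    (m₁ := IsLocalRing.maximalIdeal R) (m₂ := m)
    (by rw [← Ideal.map_map, ← hmap]; exact Ideal.map_mono Ideal.map_comap_le) le_rfl hs₁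
    (fun n b hb => by
      rw [← Ideal.map_pow, Ideal.mem_map_iff_of_surjective _ Ideal.Quotient.mk_surjective] at hb
      obtain ⟨a, ha, rfl⟩ := hb
      exact ⟨a, ha, by rw [sub_self]; exact zero_mem _⟩)
    (fun n a ha => by
      rw [RingHom.comp_apply, hR, hA, hT]
      have h1 : ψ a ∈ M ^ n := (hmem n a).2 ha
      have h2 := SetLike.ext_iff.1 (hkey n) (ψ a)
      simp only [Submodule.mem_inf] at h2
      exact ⟨fun h => (h2.1 ⟨h1, h⟩).2, fun h => (h2.2 ⟨h1, h⟩).2⟩)
  refine ⟨e, fun n x hx => ?_, fun c => ?_⟩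
  · obtain ⟨⟨b, hb⟩, hb'⟩ := AssocGr.inDeg_surjective _ n ⟨x, hx⟩
    obtain ⟨a, ha, hab⟩ := hs₁ n b hb
    have ha₁ : π.comp ψ a ∈ IsLocalRing.maximalIdeal R ^ n := by
      have := add_mem hb (Ideal.pow_le_pow_right (Nat.le_succ n) hab)
      rwa [add_sub_cancel] at this
    have ha₂ : Ideal.Quotient.mk J a ∈ m ^ n := (hA n a).2 (Ideal.mem_sup_right ha)
    have h1 : x = (AssocGr.inDeg (IdealFiltration.adic (IsLocalRing.maximalIdeal R)) n ⟨π.comp ψ a, ha₁⟩ :
        AssocGr.GrRing _) := by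
      rw [inDeg_congr _ n (a := ⟨π.comp ψ a, ha₁⟩) (b := ⟨b, hb⟩) hab, hb']
    rw [h1, he n a ha₁ ha₂ ha]
    exact SetLike.coe_mem _
  · have h0 := he 0 (algebraMap k A' c) (by rw [pow_zero, Ideal.one_eq_top]; trivial)
      (by rw [pow_zero, Ideal.one_eq_top]; trivial) (by rw [pow_zero, Ideal.one_eq_top]; trivial)
    rw [AssocGr.algebraMap_eq, AssocGr.algebraMap_eq]
    refine Eq.trans (congrArg e ?_) h0
    congr 2
    exact Subtype.ext (hc c).symm

end Model

section Main

variable (k : Type u) [Field k] [IsAlgClosed k]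

theorem exists_approximation (F : CommAlgCat.{u} k ⥤ Type u)
    (hF : ∀ (J : Type u) [SmallCategory J] [IsFiltered J], PreservesColimitsOfShape J F)
    (R : Type u) [CommRing R] [Algebra k R] [IsLocalRing R] [IsNoetherianRing R]
    [IsAdicComplete (IsLocalRing.maximalIdeal R) R]
    (hres : Function.Surjective (fun c : k => IsLocalRing.residue R (algebraMap k R c)))
    (ξ : F.obj (CommAlgCat.of k R)) (N : ℕ) :
    ∃ (A : Type u) (_ : CommRing A) (_ : Algebra k A) (_ : Algebra.FiniteType k A)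
      (m : Ideal A) (_ : m.IsMaximal)
      (_ : Function.Surjective (fun c : k => Ideal.Quotient.mk m (algebraMap k A c)))
      (η : F.obj (CommAlgCat.of k A))
      (φ : (R ⧸ IsLocalRing.maximalIdeal R ^ (N + 1)) ≃ₐ[k] (A ⧸ m ^ (N + 1))),
      F.map (CommAlgCat.ofHom (φ.toAlgHom.comp
          (Ideal.Quotient.mkₐ k (IsLocalRing.maximalIdeal R ^ (N + 1))))) ξ =
        F.map (CommAlgCat.ofHom (Ideal.Quotient.mkₐ k (m ^ (N + 1)))) η ∧
      ∃ e : AssocGr.GrRing (IdealFiltration.adic (IsLocalRing.maximalIdeal R)) ≃+*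
          AssocGr.GrRing (IdealFiltration.adic m),
        (∀ (n : ℕ) (x : AssocGr.GrRing (IdealFiltration.adic (IsLocalRing.maximalIdeal R))),
            x ∈ AssocGr.gr (IdealFiltration.adic (IsLocalRing.maximalIdeal R)) n →
              e x ∈ AssocGr.gr (IdealFiltration.adic m) n) ∧
        (∀ c : k, e (algebraMap R _ (algebraMap k R c)) = algebraMap A _ (algebraMap k A c)) := by
  classical
  haveI : PreservesFilteredColimitsOfSize.{u, u} F := ⟨fun J _ _ => hF J⟩
  obtain ⟨Cm, _, _, hCm, u, ξ₀, hξ⟩ := Groth.Agent.PopescuLib.exists_fp_preimage' k R F ξ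
  obtain ⟨q, θ, hθ, hkerθ⟩ := Algebra.FinitePresentation.out (R := k) (A := Cm)
  obtain ⟨p, g, hg⟩ := Submodule.fg_iff_exists_fin_generating_family.1 hkerθ
  obtain ⟨n, π, hπ, hmap, hC⟩ := exists_presentation k R hres
  let P := MvPolynomial (Fin n) k
  let T := AdicCompletion (origin k n) P
  let M : Ideal T := cplIdeal (origin k n)
  have fg : (origin k n).FG := IsNoetherian.noetherian _
  haveI : IsNoetherianRing T := Groth.Agent.PopescuLib.noetherian_completion _
  haveI : M.IsMaximal := AdicCompletion.isMaximal_map_of_le _ _ le_rfl fg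
  obtain ⟨r, f, hf⟩ := Submodule.fg_iff_exists_fin_generating_family.1 (IsNoetherian.noetherian (RingHom.ker π))
  obtain ⟨l, s, hs⟩ := Submodule.fg_iff_exists_fin_generating_family.1
    (IsNoetherian.noetherian (LinearMap.ker (comb f)))
  obtain ⟨c, hc⟩ := exists_bound M f s fun a ha => by rw [hs]; exact ha
  choose y hy using fun v : Fin q => hπ (u (θ (X v)))
  let kT : k →+* T := (algebraMap P T).comp MvPolynomial.C
  have hgy : ∀ i, MvPolynomial.eval₂ kT y (g i) ∈ Ideal.span (Set.range f) := fun i => by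
    show MvPolynomial.eval₂ kT y (g i) ∈ Submodule.span T (Set.range f)
    rw [hf, RingHom.mem_ker]
    have h1 : π.comp (eval₂Hom kT y) = (u.comp θ).toRingHom := by
      refine MvPolynomial.ringHom_ext (fun a => ?_) fun v => ?_
      · rw [RingHom.comp_apply, eval₂Hom_C]
        exact (hC a).trans ((u.comp θ).commutes a).symm
      · rw [RingHom.comp_apply, eval₂Hom_X']
        exact hy v
    refine (DFunLike.congr_fun h1 (g i)).trans ?_
    have h2 : g i ∈ RingHom.ker θ := hg ▸ Submodule.subset_span ⟨i, rfl⟩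
    show u (θ (g i)) = 0
    rw [RingHom.mem_ker.1 h2, map_zero]
  choose a ha using fun i => exists_comb (hgy i)
  let V : Type u := ULift.{u} (Fin r ⊕ (Fin l × Fin r) ⊕ Fin q ⊕ (Fin p × Fin r))
  let xf : Fin r → MvPolynomial V P := fun i => X ⟨Sum.inl i⟩
  let xs : Fin l → Fin r → MvPolynomial V P := fun j i => X ⟨Sum.inr (Sum.inl (j, i))⟩
  let xy : Fin q → MvPolynomial V P := fun v => X ⟨Sum.inr (Sum.inr (Sum.inl v))⟩
  let xa : Fin p → Fin r → MvPolynomial V P := fun j i => X ⟨Sum.inr (Sum.inr (Sum.inr (j, i)))⟩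
  let val : V → T := fun z => match z.down with
    | Sum.inl i => f i
    | Sum.inr (Sum.inl (j, i)) => s j i
    | Sum.inr (Sum.inr (Sum.inl v)) => y v
    | Sum.inr (Sum.inr (Sum.inr (j, i))) => a j i
  let eqn : Fin l ⊕ Fin p → MvPolynomial V P := Sum.elim (fun j => comb xf (xs j))
    (fun i => MvPolynomial.eval₂ (MvPolynomial.C.comp MvPolynomial.C) xy (g i) - comb xf (xa i))
  have hev : ∀ {S : Type u} [CommRing S] [Algebra P S] (w : V → S) (p' : MvPolynomial (Fin q) k),
      aeval w (MvPolynomial.eval₂ (MvPolynomial.C.comp MvPolynomial.C) xy p') =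
        MvPolynomial.eval₂ ((algebraMap P S).comp MvPolynomial.C)
          (fun v => w ⟨Sum.inr (Sum.inr (Sum.inl v))⟩) p' := by
    intro S _ _ w p'
    have : (aeval w : MvPolynomial V P →ₐ[P] S).toRingHom.comp
        (eval₂Hom (MvPolynomial.C.comp MvPolynomial.C) xy) =
        eval₂Hom ((algebraMap P S).comp MvPolynomial.C) (fun v => w ⟨Sum.inr (Sum.inr (Sum.inl v))⟩) := by
      refine MvPolynomial.ringHom_ext (fun c => by simp) fun v => by simp [xy]
    exact DFunLike.congr_fun this p'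
  have hcomb : ∀ {S : Type u} [CommRing S] [Algebra P S] (w : V → S) (F' G : Fin r → MvPolynomial V P),
      aeval w (comb F' G) = comb (fun i => aeval w (F' i)) (fun i => aeval w (G i)) := by
    intro S _ _ w F' G
    simp [comb_apply]
  obtain ⟨A', _, _, hA', ψ, v', hv', hclose⟩ := exists_etale_solution k (origin k n) (Finset.univ.image eqn) val
    (by
      intro e he
      obtain ⟨z, -, rfl⟩ := Finset.mem_image.1 he
      rcases z with j | i
      · show aeval val (comb xf (xs j)) = 0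
        rw [hcomb]
        simp only [xf, xs, aeval_X, val]
        have hj : s j ∈ LinearMap.ker (comb f) := hs ▸ Submodule.subset_span ⟨j, rfl⟩
        exact LinearMap.mem_ker.1 hj
      · show aeval val (MvPolynomial.eval₂ _ xy (g i) - comb xf (xa i)) = 0
        rw [map_sub, hev, hcomb, sub_eq_zero]
        simp only [xf, xa, aeval_X, val]
        exact (ha i).symm) (max N c)
  letI : Algebra k A' := ((algebraMap P A').comp (algebraMap k P)).toAlgebra
  haveI : IsScalarTower k P A' := IsScalarTower.of_algebraMap_eq fun _ => rfl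
  haveI : Algebra.FiniteType k A' := Algebra.FiniteType.trans (inferInstance : Algebra.FiniteType k P) (inferInstance : Algebra.FiniteType P A')
  let f' : Fin r → A' := fun i => v' ⟨Sum.inl i⟩
  let y' : Fin q → A' := fun v => v' ⟨Sum.inr (Sum.inr (Sum.inl v))⟩
  have hsol := fun z => hv' (eqn z) (Finset.mem_image_of_mem eqn (Finset.mem_univ z))
  have hkey : ∀ j, M ^ j ⊓ (Ideal.span (Set.range f) ⊔ M ^ (j + 1)) =
      M ^ j ⊓ (Ideal.span (Set.range fun i => ψ (f' i)) ⊔ M ^ (j + 1)) := by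
    refine hc (max N c) (le_max_right _ _) _ (fun j i => ψ (v' ⟨Sum.inr (Sum.inl (j, i))⟩))
      (fun i => hclose _) (fun j i => hclose _) fun j => ?_
    have := congrArg ψ (hsol (Sum.inl j))
    simp only [eqn, Sum.elim_inl] at this
    rw [hcomb, comb_apply, map_sum, map_zero] at this
    rw [comb_apply]
    simpa [xf, xs, f'] using this
  have hleN : M ^ (max N c + 1) ≤ M ^ (N + 1) := Ideal.pow_le_pow_right (by omega)
  have hk : ∀ b : k, π (ψ (algebraMap k A' b)) = algebraMap k R b := fun b => by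
    show π (ψ (algebraMap P A' (algebraMap k P b))) = _
    rw [AlgHom.commutes]
    exact hC b
  obtain ⟨hmax, hsurj, φ, hφ, he⟩ := exists_model (k := k) M ψ.toRingHom (exists_apply_sub_mem fg ψ)
    (apply_mem_iff fg ψ) π hπ hmap hk hres f hf.symm f' N hkey fun i => hleN (hclose _)
  let J : Ideal A' := Ideal.span (Set.range f')
  let A := A' ⧸ J
  haveI : Algebra.FiniteType k A :=
    Algebra.FiniteType.of_surjective (Ideal.Quotient.mkₐ k J) (Ideal.Quotient.mkₐ_surjective k J)
  let w : MvPolynomial (Fin q) k →ₐ[k] A := aeval fun v => Ideal.Quotient.mkₐ k J (y' v)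
  have hw : RingHom.ker θ ≤ RingHom.ker w := by
    suffices h : Submodule.span (MvPolynomial (Fin q) k) (Set.range g) ≤ RingHom.ker w by
      intro x hx
      refine h ?_
      rw [hg]
      exact hx
    rw [Submodule.span_le]
    rintro _ ⟨i, rfl⟩
    have h1 := hsol (Sum.inr i)
    simp only [eqn, Sum.elim_inr] at h1
    rw [map_sub, hev, hcomb, sub_eq_zero] at h1
    show w (g i) = 0
    have h2 : w = (Ideal.Quotient.mkₐ k J).comp (aeval y') := by ext v; simp [w]
    rw [h2, AlgHom.comp_apply, Ideal.Quotient.mkₐ_eq_mk, Ideal.Quotient.eq_zero_iff_mem]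
    refine (show aeval y' (g i) = _ from h1).symm ▸ ?_
    simp only [xf, xa, aeval_X]
    exact comb_mem _ _
  let h : Cm →ₐ[k] A := (Ideal.Quotient.liftₐ (RingHom.ker θ) w fun x hx => hw hx).comp
    (Ideal.quotientKerAlgEquivOfSurjective hθ).symm.toAlgHom
  refine ⟨A, inferInstance, inferInstance, inferInstance, _, hmax, hsurj,
    F.map (CommAlgCat.ofHom h) ξ₀, φ, ?_, he⟩
  rw [← hξ, ← FunctorToTypes.map_comp_apply, ← FunctorToTypes.map_comp_apply, ← CommAlgCat.ofHom_comp,
    ← CommAlgCat.ofHom_comp]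
  suffices key : (φ.toAlgHom.comp (Ideal.Quotient.mkₐ k (IsLocalRing.maximalIdeal R ^ (N + 1)))).comp u =
      (Ideal.Quotient.mkₐ k _).comp h by rw [key]
  refine (AlgHom.cancel_right hθ).1 (MvPolynomial.algHom_ext fun v => ?_)
  show φ (Ideal.Quotient.mk _ (u (θ (X v)))) = Ideal.Quotient.mk _ (h (θ (X v)))
  have hh : h (θ (X v)) = Ideal.Quotient.mk J (y' v) := by
    have h1 : (Ideal.quotientKerAlgEquivOfSurjective hθ).symm (θ (X v)) = Ideal.Quotient.mk _ (X v) :=
      (AlgEquiv.symm_apply_eq _).2 (Ideal.quotientKerAlgEquivOfSurjective_mk hθ _).symm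
    show (Ideal.Quotient.liftₐ (RingHom.ker θ) w fun x hx => hw hx)
      ((Ideal.quotientKerAlgEquivOfSurjective hθ).symm (θ (X v))) = _
    rw [h1]
    exact aeval_X _ v
  have hp : Ideal.Quotient.mk (IsLocalRing.maximalIdeal R ^ (N + 1)) (u (θ (X v))) =
      Ideal.Quotient.mk _ (π (ψ (y' v))) := by
    rw [Ideal.Quotient.eq, ← hy, ← map_sub, ← hmap, ← Ideal.map_pow, ← neg_sub]
    exact Ideal.mem_map_of_mem _ (neg_mem (hleN (hclose _)))
  rw [hh, hp]
  exact hφ (y' v)

end Main

end Groth.Agent.AlgzLib
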