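import Groth.Agent.AlgzLib.Main
import Mathlib.RingTheory.Artinian.Ring

/-!
Algebraization of versal formal elements.
-/

set_option autoImplicit false

universe u

open CategoryTheory Limits FiltBl

noncomputable section

namespace Groth.Agent.AlgzLib

theorem isArtinianRing_quotient_pow {B : Type u} [CommRing B] [IsNoetherianRing B] (m : Ideal B)
    [m.IsMaximal] (n : ℕ) : IsArtinianRing (B ⧸ m ^ n) := by
  have : IsNoetherianRing (B ⧸ m ^ n) :=
    isNoetherianRing_of_surjective B (B ⧸ m ^ n) (Ideal.Quotient.mk _) Ideal.Quotient.mk_surjective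
  have : Ring.KrullDimLE 0 (B ⧸ m ^ n) := Ring.krullDimLE_zero_iff.mpr fun P hP => by
    have := hP.comap (Ideal.Quotient.mk (m ^ n))
    have hle : m ≤ P.comap (Ideal.Quotient.mk (m ^ n)) := this.le_of_pow_le (n := n)
      (fun x hx => by
        rw [Ideal.mem_comap, Ideal.Quotient.eq_zero_iff_mem.2 hx]
        exact P.zero_mem)
    have he := (inferInstance : m.IsMaximal).eq_of_le this.ne_top hle
    have hn : n ≠ 0 := by
      rintro rfl
      refine hP.ne_top ((Ideal.eq_top_iff_one P).2 ?_)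
      have h1 : (1 : B ⧸ m ^ 0) = 0 := (map_one (Ideal.Quotient.mk (m ^ 0))).symm.trans
        (Ideal.Quotient.eq_zero_iff_mem.2 (by simp))
      rw [h1]
      exact P.zero_mem
    rw [← Ideal.map_comap_of_surjective _ Ideal.Quotient.mk_surjective P, ← he]
    exact Ideal.IsMaximal.map_of_surjective_of_ker_le Ideal.Quotient.mk_surjective
      (by rw [Ideal.mk_ker]; exact Ideal.pow_le_self hn)
  exact IsNoetherianRing.isArtinianRing_of_krullDimLE_zero

theorem isLocalRing_quotient_pow {B : Type u} [CommRing B] (m : Ideal B) [hm : m.IsMaximal] {n : ℕ} (hn : n ≠ 0) :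
    IsLocalRing (B ⧸ m ^ n) := by
  refine IsLocalRing.of_unique_max_ideal ⟨m.map (Ideal.Quotient.mk _),
    Ideal.IsMaximal.map_of_surjective_of_ker_le Ideal.Quotient.mk_surjective
      (by rw [Ideal.mk_ker]; exact Ideal.pow_le_self hn), fun P hP => ?_⟩
  have hP' : P.IsMaximal := hP
  haveI := Ideal.comap_isMaximal_of_surjective (Ideal.Quotient.mk (m ^ n)) Ideal.Quotient.mk_surjective (K := P)
  have hle : m ≤ P.comap (Ideal.Quotient.mk (m ^ n)) := (‹(P.comap (Ideal.Quotient.mk (m ^ n))).IsMaximal›).isPrime.le_of_pow_le (n := n)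
    (fun x hx => by
      rw [Ideal.mem_comap, Ideal.Quotient.eq_zero_iff_mem.2 hx]
      exact P.zero_mem)
  rw [← Ideal.map_comap_of_surjective _ Ideal.Quotient.mk_surjective P,
    ← hm.eq_of_le (‹(P.comap (Ideal.Quotient.mk (m ^ n))).IsMaximal›).ne_top hle]

variable (k : Type u) [Field k]

section Compat

variable {k} {A : Type u} [CommRing A] [Algebra k A] (m : Ideal A)

/-- The transition map between infinitesimal neighbourhoods. -/
def qf {i j : ℕ} (h : i ≤ j) : (A ⧸ m ^ j) →ₐ[k] A ⧸ m ^ i :=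
  Ideal.Quotient.factorₐ k (Ideal.pow_le_pow_right h)

theorem qf_mk {i j : ℕ} (h : i ≤ j) (x : A) :
    qf (k := k) m h (Ideal.Quotient.mk (m ^ j) x) = Ideal.Quotient.mk (m ^ i) x := rfl

theorem qf_comp_mk {i j : ℕ} (h : i ≤ j) :
    (qf (k := k) m h).comp (Ideal.Quotient.mkₐ k (m ^ j)) = Ideal.Quotient.mkₐ k (m ^ i) :=
  AlgHom.ext fun x => qf_mk (k := k) m h x

theorem qf_self {i : ℕ} (h : i ≤ i) (y : A ⧸ m ^ i) : qf (k := k) m h y = y := by
  obtain ⟨x, rfl⟩ := Ideal.Quotient.mk_surjective y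
  exact qf_mk m h x

theorem qf_qf {i j l : ℕ} (h : i ≤ j) (h' : j ≤ l) (y : A ⧸ m ^ l) :
    qf (k := k) m h (qf (k := k) m h' y) = qf (k := k) m (h.trans h') y := by
  obtain ⟨x, rfl⟩ := Ideal.Quotient.mk_surjective y
  rw [qf_mk, qf_mk, qf_mk]

theorem map_qf (F : CommAlgCat.{u} k ⥤ Type u) (η : F.obj (CommAlgCat.of k A)) {i j : ℕ} (h : i ≤ j) :
    F.map (CommAlgCat.ofHom (qf m h)) (F.map (CommAlgCat.ofHom (Ideal.Quotient.mkₐ k (m ^ j))) η) =
      F.map (CommAlgCat.ofHom (Ideal.Quotient.mkₐ k (m ^ i))) η := by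
  rw [← FunctorToTypes.map_comp_apply, ← CommAlgCat.ofHom_comp, qf_comp_mk]

theorem qf_seq {R : Type u} [CommRing R] [Algebra k R] (H : ∀ j, R →ₐ[k] A ⧸ m ^ (j + 2))
    (hsucc : ∀ j, (qf m (show j + 2 ≤ j + 1 + 2 by omega)).comp (H (j + 1)) = H j) {i j : ℕ} (h : i ≤ j)
    (h' : i + 2 ≤ j + 2) (r : R) : qf (k := k) m h' (H j r) = H i r := by
  induction j, h using Nat.le_induction with
  | base => exact qf_self m h' _
  | succ j h ih =>
    rw [← ih (Nat.add_le_add_right h 2), ← DFunLike.congr_fun (hsucc j) r, AlgHom.comp_apply]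
    exact (qf_qf m _ _ _).symm

end Compat

theorem exists_lift_step (F : CommAlgCat.{u} k ⥤ Type u)
    (R : Type u) [CommRing R] [Algebra k R] [IsLocalRing R] [IsNoetherianRing R]
    [IsAdicComplete (IsLocalRing.maximalIdeal R) R]
    (ξ : F.obj (CommAlgCat.of k R))
    (hvers : ∀ (B B₀ : Type u) [CommRing B] [Algebra k B] [IsLocalRing B] [IsArtinianRing B]
        [CommRing B₀] [Algebra k B₀] [IsLocalRing B₀] [IsArtinianRing B₀],
        Function.Surjective (fun c : k => IsLocalRing.residue B (algebraMap k B c)) →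
        ∀ (π : B →ₐ[k] B₀), Function.Surjective π →
          ∀ (g₀ : R →ₐ[k] B₀) (y : F.obj (CommAlgCat.of k B)),
            F.map (CommAlgCat.ofHom π) y = F.map (CommAlgCat.ofHom g₀) ξ →
              ∃ g : R →ₐ[k] B, π.comp g = g₀ ∧ F.map (CommAlgCat.ofHom g) ξ = y)
    (A : Type u) [CommRing A] [Algebra k A] [IsNoetherianRing A] (m : Ideal A) [hm : m.IsMaximal]
    (hmres : Function.Surjective (fun c : k => Ideal.Quotient.mk m (algebraMap k A c)))
    (η : F.obj (CommAlgCat.of k A)) {i j : ℕ} (hi : i ≠ 0) (hij : i ≤ j) (g : R →ₐ[k] A ⧸ m ^ i)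
    (hg : F.map (CommAlgCat.ofHom g) ξ = F.map (CommAlgCat.ofHom (Ideal.Quotient.mkₐ k (m ^ i))) η) :
    ∃ g' : R →ₐ[k] A ⧸ m ^ j, (qf m hij).comp g' = g ∧
      F.map (CommAlgCat.ofHom g') ξ = F.map (CommAlgCat.ofHom (Ideal.Quotient.mkₐ k (m ^ j))) η := by
  have hj : j ≠ 0 := by omega
  haveI := isArtinianRing_quotient_pow m i
  haveI := isArtinianRing_quotient_pow m j
  haveI : IsLocalRing (A ⧸ m ^ i) := isLocalRing_quotient_pow m hi
  haveI : IsLocalRing (A ⧸ m ^ j) := isLocalRing_quotient_pow m hj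
  refine hvers (A ⧸ m ^ j) (A ⧸ m ^ i) (fun y => ?_) (qf m hij)
    (Ideal.Quotient.factor_surjective (Ideal.pow_le_pow_right hij)) g _ ((map_qf m F η hij).trans hg.symm)
  obtain ⟨z, rfl⟩ := Ideal.Quotient.mk_surjective y
  obtain ⟨x, rfl⟩ := Ideal.Quotient.mk_surjective z
  obtain ⟨c, hc⟩ := hmres (Ideal.Quotient.mk m x)
  refine ⟨c, Ideal.Quotient.eq.2 ?_⟩
  have hmax : m.map (Ideal.Quotient.mk (m ^ j)) = IsLocalRing.maximalIdeal (A ⧸ m ^ j) :=
    IsLocalRing.eq_maximalIdeal (Ideal.IsMaximal.map_of_surjective_of_ker_le Ideal.Quotient.mk_surjective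
      (by rw [Ideal.mk_ker]; exact Ideal.pow_le_self hj))
  rw [← hmax, show algebraMap k (A ⧸ m ^ j) c = Ideal.Quotient.mk _ (algebraMap k A c) from rfl, ← map_sub]
  exact Ideal.mem_map_of_mem _ (Ideal.Quotient.eq.1 hc)

theorem exists_compatible (F : CommAlgCat.{u} k ⥤ Type u)
    (R : Type u) [CommRing R] [Algebra k R] [IsLocalRing R] [IsNoetherianRing R]
    [IsAdicComplete (IsLocalRing.maximalIdeal R) R]
    (ξ : F.obj (CommAlgCat.of k R))
    (hvers : ∀ (B B₀ : Type u) [CommRing B] [Algebra k B] [IsLocalRing B] [IsArtinianRing B]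
        [CommRing B₀] [Algebra k B₀] [IsLocalRing B₀] [IsArtinianRing B₀],
        Function.Surjective (fun c : k => IsLocalRing.residue B (algebraMap k B c)) →
        ∀ (π : B →ₐ[k] B₀), Function.Surjective π →
          ∀ (g₀ : R →ₐ[k] B₀) (y : F.obj (CommAlgCat.of k B)),
            F.map (CommAlgCat.ofHom π) y = F.map (CommAlgCat.ofHom g₀) ξ →
              ∃ g : R →ₐ[k] B, π.comp g = g₀ ∧ F.map (CommAlgCat.ofHom g) ξ = y)
    (A : Type u) [CommRing A] [Algebra k A] [IsNoetherianRing A] (m : Ideal A) [hm : m.IsMaximal]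
    (hmres : Function.Surjective (fun c : k => Ideal.Quotient.mk m (algebraMap k A c)))
    (η : F.obj (CommAlgCat.of k A)) (g₁ : R →ₐ[k] A ⧸ m ^ 2)
    (hφ : F.map (CommAlgCat.ofHom g₁) ξ = F.map (CommAlgCat.ofHom (Ideal.Quotient.mkₐ k (m ^ 2))) η) :
    ∃ fr : ∀ n, R →ₐ[k] A ⧸ m ^ n,
      (∀ {i j : ℕ} (h : i ≤ j), (Ideal.Quotient.factorPow m h).comp (fr j).toRingHom = (fr i).toRingHom) ∧
      (∀ r, fr 2 r = g₁ r) ∧
      ∀ n, F.map (CommAlgCat.ofHom (fr n)) ξ = F.map (CommAlgCat.ofHom (Ideal.Quotient.mkₐ k (m ^ n))) η := by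
  have step : ∀ (j : ℕ) (g : {g : R →ₐ[k] A ⧸ m ^ (j + 2) //
      F.map (CommAlgCat.ofHom g) ξ = F.map (CommAlgCat.ofHom (Ideal.Quotient.mkₐ k (m ^ (j + 2)))) η}),
      ∃ g' : {g : R →ₐ[k] A ⧸ m ^ (j + 1 + 2) //
        F.map (CommAlgCat.ofHom g) ξ = F.map (CommAlgCat.ofHom (Ideal.Quotient.mkₐ k (m ^ (j + 1 + 2)))) η},
        (qf m (show j + 2 ≤ j + 1 + 2 by omega)).comp g'.1 = g.1 := by
    intro j g
    obtain ⟨g', h1, h2⟩ := exists_lift_step k F R ξ hvers A m hmres η (i := j + 2) (j := j + 1 + 2)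
      (by omega) (by omega) g.1 g.2
    exact ⟨⟨g', h2⟩, h1⟩
  choose nxt hnxt using step
  obtain ⟨H, hH0, hHs⟩ : ∃ H : ∀ j, {g : R →ₐ[k] A ⧸ m ^ (j + 2) //
      F.map (CommAlgCat.ofHom g) ξ = F.map (CommAlgCat.ofHom (Ideal.Quotient.mkₐ k (m ^ (j + 2)))) η},
      (H 0).1 = (qf m (show 0 + 2 ≤ 2 by omega)).comp g₁ ∧ ∀ j, H (j + 1) = nxt j (H j) :=
    ⟨fun j => Nat.rec ⟨(qf m (show 0 + 2 ≤ 2 by omega)).comp g₁, by
      rw [CommAlgCat.ofHom_comp, FunctorToTypes.map_comp_apply, hφ]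
      exact map_qf m F η _⟩ nxt j, rfl, fun j => rfl⟩
  have hsucc : ∀ j, (qf m (show j + 2 ≤ j + 1 + 2 by omega)).comp (H (j + 1)).1 = (H j).1 := fun j => by
    rw [hHs j]
    exact hnxt j (H j)
  refine ⟨fun n => (qf m (Nat.le_add_right n 2)).comp (H n).1, fun {i j} h => RingHom.ext fun r => ?_,
    fun r => ?_, fun n => ?_⟩
  · show qf (k := k) m h (qf (k := k) m (Nat.le_add_right j 2) ((H j).1 r)) =
      qf (k := k) m (Nat.le_add_right i 2) ((H i).1 r)
    rw [qf_qf, ← qf_seq m (fun j => (H j).1) hsucc h (Nat.add_le_add_right h 2) r, qf_qf]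
  · have h1 := congrArg (qf (k := k) m (show 2 ≤ 0 + 2 by omega))
      ((qf_seq m (fun j => (H j).1) hsucc (i := 0) (j := 2) (Nat.zero_le 2) (show 0 + 2 ≤ 2 + 2 by omega) r).trans
        (DFunLike.congr_fun hH0 r))
    rw [AlgHom.comp_apply, qf_qf, qf_qf, qf_self] at h1
    exact h1
  · rw [CommAlgCat.ofHom_comp, FunctorToTypes.map_comp_apply, (H n).2]
    exact map_qf m F η _

theorem exists_bijective (R : Type u) [CommRing R] [Algebra k R] [IsLocalRing R] [IsNoetherianRing R]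
    [IsAdicComplete (IsLocalRing.maximalIdeal R) R]
    (A : Type u) [CommRing A] [Algebra k A] [IsNoetherianRing A] (m : Ideal A) [hm : m.IsMaximal]
    (hmres : Function.Surjective (fun c : k => Ideal.Quotient.mk m (algebraMap k A c)))
    (φ : (R ⧸ IsLocalRing.maximalIdeal R ^ 2) ≃ₐ[k] (A ⧸ m ^ 2))
    (e : AssocGr.GrRing (IdealFiltration.adic (IsLocalRing.maximalIdeal R)) ≃+*
      AssocGr.GrRing (IdealFiltration.adic m))
    (fr : ∀ n, R →ₐ[k] A ⧸ m ^ n)
    (hfr : ∀ {i j : ℕ} (h : i ≤ j), (Ideal.Quotient.factorPow m h).comp (fr j).toRingHom = (fr i).toRingHom)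
    (hfr2 : ∀ r, fr 2 r = φ (Ideal.Quotient.mk _ r)) :
    ∃ α : R ≃+* AdicCompletion m A,
      (∀ c : k, α (algebraMap k R c) = algebraMap A (AdicCompletion m A) (algebraMap k A c)) ∧
      ∀ n r, AdicCompletion.evalₐ m n (α r) = fr n r := by
  let α : R →+* AdicCompletion m A := AdicCompletion.liftRingHom m (fun n => (fr n).toRingHom) hfr
  have hα : ∀ n r, AdicCompletion.evalₐ m n (α r) = fr n r := fun n r =>
    AdicCompletion.evalₐ_liftRingHom m _ hfr n r
  have fg : m.FG := IsNoetherian.noetherian m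
  let M : Ideal (AdicCompletion m A) := cplIdeal m
  haveI := AdicCompletion.isAdicComplete_self _ fg
  have hle : (IsLocalRing.maximalIdeal R).map α ≤ M := by
    rw [Ideal.map_le_iff_le_comap]
    intro r hr
    show α r ∈ cplIdeal m
    rw [← pow_one (cplIdeal m), mem_pow_iff fg, hα]
    have h1 := DFunLike.congr_fun (hfr (Nat.le_succ 1)) r
    change Ideal.Quotient.factorPow m (Nat.le_succ 1) (fr 2 r) = fr 1 r at h1
    rw [← h1, hfr2]
    obtain ⟨x, hx⟩ := Ideal.Quotient.mk_surjective (φ (Ideal.Quotient.mk _ r))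
    rw [← hx]
    refine Ideal.Quotient.eq_zero_iff_mem.2 ?_
    rw [pow_one]
    refine hm.isPrime.mem_of_pow_mem 2 (Ideal.pow_le_self two_ne_zero (Ideal.Quotient.eq_zero_iff_mem.1 ?_))
    rw [map_pow, hx, ← map_pow, ← map_pow, Ideal.Quotient.eq_zero_iff_mem.2 (Ideal.pow_mem_pow hr 2), map_zero]
  have hsup : M ≤ (IsLocalRing.maximalIdeal R).map α ⊔ M • M := by
    refine Ideal.map_le_iff_le_comap.2 fun x hx => ?_
    obtain ⟨r, hr⟩ := Ideal.Quotient.mk_surjective (φ.symm (Ideal.Quotient.mk _ x))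
    have hrm : r ∈ IsLocalRing.maximalIdeal R := by
      refine (IsLocalRing.maximalIdeal.isMaximal R).isPrime.mem_of_pow_mem 2
        (Ideal.pow_le_self two_ne_zero (Ideal.Quotient.eq_zero_iff_mem.1 ?_))
      rw [map_pow, hr, ← map_pow, ← map_pow, Ideal.Quotient.eq_zero_iff_mem.2 (Ideal.pow_mem_pow hx 2), map_zero]
    show algebraMap A (AdicCompletion m A) x ∈ (IsLocalRing.maximalIdeal R).map α ⊔ M • M
    rw [show algebraMap A (AdicCompletion m A) x = α r + (algebraMap A _ x - α r) by ring]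
    refine add_mem (Ideal.mem_sup_left (Ideal.mem_map_of_mem _ hrm)) (Ideal.mem_sup_right ?_)
    rw [smul_eq_mul, ← pow_two, mem_pow_iff fg, map_sub, AlgHom.commutes, hα, hfr2, hr, AlgEquiv.apply_symm_apply]
    exact sub_self _
  have hM : (IsLocalRing.maximalIdeal R).map α = M :=
    le_antisymm hle (Submodule.le_of_le_smul_of_le_jacobson_bot (fg.map _)
      (IsAdicComplete.le_jacobson_bot _) hsup)
  have hscalar : ∀ c : k, α (algebraMap k R c) = algebraMap A _ (algebraMap k A c) := fun c =>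
    AdicCompletion.ext_evalₐ fun n => by
      rw [hα, AlgHom.commutes, AlgHom.commutes]
      rfl
  have hsurj : Function.Surjective α := by
    haveI : IsHausdorff ((IsLocalRing.maximalIdeal R).map α) (AdicCompletion m A) := by rw [hM]; infer_instance
    refine surjective_of_mk_map_comp_surjective (I := IsLocalRing.maximalIdeal R) α fun y => ?_
    obtain ⟨t, rfl⟩ := Ideal.Quotient.mk_surjective y
    obtain ⟨p, hp⟩ := exists_sub_mem fg 1 t
    obtain ⟨c, hc⟩ := hmres (Ideal.Quotient.mk m p)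
    refine ⟨algebraMap k R c, Ideal.Quotient.eq.2 ?_⟩
    have h2 := Ideal.mem_map_of_mem (algebraMap A (AdicCompletion m A)) (Ideal.Quotient.eq.1 hc)
    rw [pow_one] at hp
    rw [hM, hscalar, show algebraMap A (AdicCompletion m A) (algebraMap k A c) - t =
      algebraMap A _ (algebraMap k A c - p) - (t - algebraMap A _ p) by rw [map_sub]; ring]
    exact sub_mem h2 hp
  have hinj : Function.Injective α := by
    let hι : AssocGr.IsFiltHom (algebraMap A (AdicCompletion m A)) (IdealFiltration.adic m)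
        (IdealFiltration.adic M) := AssocGr.IsFiltHom.adic le_rfl
    have bι : Function.Bijective (AssocGr.map hι) := by
      refine ⟨AdicGrLib.map_injective _ fun n a _ h => (algebraMap_mem_iff fg (n + 1) a).1 h,
        AdicGrLib.map_surjective _ fun n b hb => ?_⟩
      obtain ⟨p, hp⟩ := exists_sub_mem fg (n + 1) b
      refine ⟨p, (algebraMap_mem_iff fg n p).1 ?_, ?_⟩
      · have := sub_mem hb (Ideal.pow_le_pow_right (Nat.le_succ n) hp)
        rwa [sub_sub_cancel] at this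
      · show algebraMap A _ p - b ∈ M ^ (n + 1)
        rw [← neg_sub]
        exact neg_mem hp
    let hαF : AssocGr.IsFiltHom α (IdealFiltration.adic (IsLocalRing.maximalIdeal R)) (IdealFiltration.adic M) :=
      AssocGr.IsFiltHom.adic hle
    have sα : Function.Surjective (AssocGr.map hαF) := by
      refine AdicGrLib.map_surjective _ fun n b hb => ?_
      change b ∈ M ^ n at hb
      rw [← hM, ← Ideal.map_pow, Ideal.mem_map_iff_of_surjective α hsurj] at hb
      obtain ⟨a, ha, rfl⟩ := hb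
      exact ⟨a, ha, by rw [sub_self]; exact zero_mem _⟩
    let E := (RingEquiv.ofBijective _ bι).symm.trans e.symm
    have iα : Function.Injective (AssocGr.map hαF) := fun a b h =>
      injective_of_surjective_endo (E.toRingHom.comp (AssocGr.map hαF)) (E.surjective.comp sα)
        (congrArg E h)
    rw [injective_iff_map_eq_zero]
    intro r hr
    refine IsHausdorff.haus (inferInstance : IsHausdorff (IsLocalRing.maximalIdeal R) R) r fun n => ?_
    rw [SModEq.sub_mem, sub_zero, smul_eq_mul, Ideal.mul_top]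
    induction n with
    | zero => simp
    | succ n ih =>
      have h1 := AssocGr.map_inDeg hαF n ⟨r, ih⟩
      refine (AssocGr.inDeg_eq_zero_iff _ n ⟨r, ih⟩).1 (Subtype.ext (iα ?_))
      rw [h1, ZeroMemClass.coe_zero, map_zero, AssocGr.coe_inDeg]
      have h2 : (⟨α r, hαF.apply_mem ih⟩ : (IdealFiltration.adic M).F n) = 0 := Subtype.ext hr
      rw [h2, map_zero, ZeroMemClass.coe_zero, map_zero]
  exact ⟨RingEquiv.ofBijective α ⟨hinj, hsurj⟩, hscalar, hα⟩

theorem exists_algebraization [IsAlgClosed k] (F : CommAlgCat.{u} k ⥤ Type u)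
    (hF : ∀ (J : Type u) [SmallCategory J] [IsFiltered J], PreservesColimitsOfShape J F)
    (R : Type u) [CommRing R] [Algebra k R] [IsLocalRing R] [IsNoetherianRing R]
    [IsAdicComplete (IsLocalRing.maximalIdeal R) R]
    (hres : Function.Surjective (fun c : k => IsLocalRing.residue R (algebraMap k R c)))
    (ξ : F.obj (CommAlgCat.of k R))
    (hvers : ∀ (B B₀ : Type u) [CommRing B] [Algebra k B] [IsLocalRing B] [IsArtinianRing B]
        [CommRing B₀] [Algebra k B₀] [IsLocalRing B₀] [IsArtinianRing B₀],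
        Function.Surjective (fun c : k => IsLocalRing.residue B (algebraMap k B c)) →
        ∀ (π : B →ₐ[k] B₀), Function.Surjective π →
          ∀ (g₀ : R →ₐ[k] B₀) (y : F.obj (CommAlgCat.of k B)),
            F.map (CommAlgCat.ofHom π) y = F.map (CommAlgCat.ofHom g₀) ξ →
              ∃ g : R →ₐ[k] B, π.comp g = g₀ ∧ F.map (CommAlgCat.ofHom g) ξ = y) :
    ∃ (A : Type u) (_ : CommRing A) (_ : Algebra k A) (_ : Algebra.FiniteType k A)
      (m : Ideal A) (_ : m.IsMaximal)
      (_ : Function.Surjective (fun c : k => Ideal.Quotient.mk m (algebraMap k A c)))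
      (η : F.obj (CommAlgCat.of k A))
      (α : R ≃+* AdicCompletion m A),
      (∀ c : k, α (algebraMap k R c) = algebraMap A (AdicCompletion m A) (algebraMap k A c)) ∧
      ∀ (n : ℕ) (ψ : R →ₐ[k] A ⧸ m ^ (n + 1)),
        ψ.toRingHom = (AdicCompletion.evalₐ m (n + 1) :
            AdicCompletion m A →ₐ[A] A ⧸ m ^ (n + 1)).toRingHom.comp α.toRingHom →
          F.map (CommAlgCat.ofHom ψ) ξ = F.map (CommAlgCat.ofHom (Ideal.Quotient.mkₐ k (m ^ (n + 1)))) η := by
  classical
  obtain ⟨A, _, _, _, m, hm, hmres, η, φ, hφ, e, -, -⟩ := exists_approximation k F hF R hres ξ 1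
  haveI : IsNoetherianRing A := Algebra.FiniteType.isNoetherianRing k A
  obtain ⟨fr, hfr, hfr2, hη⟩ := exists_compatible k F R ξ hvers A m hmres η
    (φ.toAlgHom.comp (Ideal.Quotient.mkₐ k _)) hφ
  obtain ⟨α, hscalar, hα⟩ := exists_bijective k R A m hmres φ e fr hfr hfr2
  refine ⟨A, inferInstance, inferInstance, inferInstance, m, hm, hmres, η, α, hscalar, fun n ψ hψ => ?_⟩
  have h : ψ = fr (n + 1) := AlgHom.ext fun r => (DFunLike.congr_fun hψ r).trans (hα (n + 1) r)
  rw [h]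
  exact hη (n + 1)

end Groth.Agent.AlgzLib
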